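import Groth.Prelude.Def_CohTop

set_option autoImplicit false
set_option backward.isDefEq.respectTransparency false
set_option backward.isDefEq.respectTransparency.types false

universe u

open CategoryTheory CategoryTheory.Limits Abelian TopologicalSpace

namespace Groth.Agent.H9FormalCoh

variable {X : TopCat.{u}} {F G H : CohTop.Ab X}

theorem HUmap_mk₀ (φ : F ⟶ G) (U : Opens X) (a : _ ⟶ F) :
    CohTop.HUmap φ 0 U (Ext.mk₀ a) = Ext.mk₀ (a ≫ φ) :=
  Ext.mk₀_comp_mk₀ a φ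

theorem HUmap_comp (φ : F ⟶ G) (ψ : G ⟶ H) (i : ℕ) (U : Opens X) (x : CohTop.HU F i U) :
    CohTop.HUmap ψ i U (CohTop.HUmap φ i U x) = CohTop.HUmap (φ ≫ ψ) i U x := by
  exact (ConcreteCategory.congr_hom (congrArg (fun t => NatTrans.app t (Opposite.op U))
    ((Sheaf.cohomologyPresheafFunctor _ i).map_comp φ ψ)) x).symm

theorem HUmap_id (i : ℕ) (U : Opens X) (x : CohTop.HU F i U) : CohTop.HUmap (𝟙 F) i U x = x := by
  exact ConcreteCategory.congr_hom (congrArg (fun t => NatTrans.app t (Opposite.op U))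
    ((Sheaf.cohomologyPresheafFunctor _ i).map_id F)) x

theorem res_HUmap (φ : F ⟶ G) (i : ℕ) {U V : Opens X} (h : V ≤ U) (x : CohTop.HU F i U) :
    CohTop.res G i h (CohTop.HUmap φ i U x) = CohTop.HUmap φ i V (CohTop.res F i h x) :=
  (ConcreteCategory.congr_hom
    (((Sheaf.cohomologyPresheafFunctor _ i).map φ).naturality (homOfLE h).op) x).symm

theorem res_res (i : ℕ) {U V W : Opens X} (h : V ≤ U) (h' : W ≤ V) (x : CohTop.HU F i U) :
    CohTop.res F i h' (CohTop.res F i h x) = CohTop.res F i (h'.trans h) x :=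
  (ConcreteCategory.congr_hom ((Sheaf.cohomologyPresheaf.{u} F i).map_comp (homOfLE h).op (homOfLE h').op) x).symm

theorem HUmap_zero (U : Opens X) (x : CohTop.HU F 0 U) : CohTop.HUmap (0 : F ⟶ G) 0 U x = 0 := by
  obtain ⟨a, rfl⟩ := (Ext.mk₀_bijective _ _).2 x
  rw [HUmap_mk₀, comp_zero, Ext.mk₀_zero]

theorem HUmap_exact (S : ShortComplex (CohTop.Ab X)) (hS : S.Exact) [Mono S.f] (U : Opens X) :
    Function.Injective (CohTop.HUmap S.f 0 U) ∧
      ∀ x, CohTop.HUmap S.g 0 U x = 0 → ∃ y, CohTop.HUmap S.f 0 U y = x := by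
  constructor
  · intro x y hxy
    obtain ⟨a, rfl⟩ := (Ext.mk₀_bijective _ _).2 x
    obtain ⟨b, rfl⟩ := (Ext.mk₀_bijective _ _).2 y
    rw [HUmap_mk₀, HUmap_mk₀] at hxy
    rw [(cancel_mono S.f).1 ((Ext.mk₀_bijective _ _).1 hxy)]
  · intro x hx
    obtain ⟨a, rfl⟩ := (Ext.mk₀_bijective _ _).2 x
    rw [HUmap_mk₀, ← Ext.mk₀_zero] at hx
    exact ⟨Ext.mk₀ (hS.lift a ((Ext.mk₀_bijective _ _).1 hx)), by rw [HUmap_mk₀, hS.lift_f]⟩

end Groth.Agent.H9FormalCoh
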