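import Groth.Prelude.Def_Formal2
import Groth.Agent.QCoh.Tilde
import Groth.Agent.QCoh.ToSheaf
import Groth.Agent.H9FormalCoh.Site
import Mathlib.RingTheory.Filtration

set_option autoImplicit false
set_option backward.isDefEq.respectTransparency false
set_option backward.isDefEq.respectTransparency.types false
set_option linter.style.haveILetI false

universe u

open CategoryTheory CategoryTheory.Limits AlgebraicGeometry Formal2 Abelian

namespace Groth.Agent.H9FormalCoh

variable (A : Type u) [CommRing A]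

/-- The functor `M ↦` underlying abelian sheaf of `M~`. -/
noncomputable abbrev F : ModuleCat.{u} (CommRingCat.of A) ⥤ CohTop.Ab (Spec (CommRingCat.of A)).toTopCat :=
  tilde.functor (CommRingCat.of A) ⋙ Groth.Agent.QCoh.toAbFunctor _

theorem FR_exact (R : CommRingCat.{u}) (S : ShortComplex (ModuleCat.{u} R)) (hS : S.Exact) [hm : Mono S.f]
    (V : (Spec R).Opens) :
    Function.Injective (CohTop.HUmap (X := (Spec R).toTopCat) ((tilde.functor R ⋙ Groth.Agent.QCoh.toAbFunctor _).map S.f) 0 V) ∧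
      ∀ x, CohTop.HUmap (X := (Spec R).toTopCat) ((tilde.functor R ⋙ Groth.Agent.QCoh.toAbFunctor _).map S.g) 0 V x = 0 →
        ∃ y, CohTop.HUmap (X := (Spec R).toTopCat) ((tilde.functor R ⋙ Groth.Agent.QCoh.toAbFunctor _).map S.f) 0 V y = x := by
  let G := tilde.functor R ⋙ Groth.Agent.QCoh.toAbFunctor _
  have hF : (S.map G).Exact := hS.map_of_mono_of_preservesKernel G hm inferInstance
  haveI : Mono (S.map G).f := inferInstanceAs (Mono (G.map S.f))
  exact HUmap_exact (S.map G) hF V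

theorem map_zero' (R : CommRingCat.{u}) (M N : ModuleCat.{u} R) :
    (tilde.functor R ⋙ Groth.Agent.QCoh.toAbFunctor _).map (0 : M ⟶ N) = 0 := Functor.map_zero _ _ _

theorem map_comp' {M N P : Type u} [AddCommGroup M] [Module A M] [AddCommGroup N] [Module A N]
    [AddCommGroup P] [Module A P] (f : M →ₗ[A] N) (g : N →ₗ[A] P) :
    (F A).map (ModuleCat.ofHom (g ∘ₗ f)) = (F A).map (ModuleCat.ofHom f) ≫ (F A).map (ModuleCat.ofHom g) :=
  ((F A).congr_map (ModuleCat.ofHom_comp f g)).trans ((F A).map_comp _ _)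

theorem HVmap_comp {M N P : Type u} [AddCommGroup M] [Module A M] [AddCommGroup N] [Module A N]
    [AddCommGroup P] [Module A P] (f : M →ₗ[A] N) (g : N →ₗ[A] P) (i : ℕ)
    (V : (Spec (CommRingCat.of A)).Opens) (x : HV A M i V) :
    HVmap A g i V (HVmap A f i V x) = HVmap A (g ∘ₗ f) i V x :=
  (HUmap_comp ((F A).map (ModuleCat.ofHom f)) ((F A).map (ModuleCat.ofHom g)) i V x).trans
    (congrArg (fun t => CohTop.HUmap t i V x) (map_comp' A f g).symm)

theorem HVres_map {M N : Type u} [AddCommGroup M] [Module A M] [AddCommGroup N] [Module A N]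
    (f : M →ₗ[A] N) (i : ℕ) {V V' : (Spec (CommRingCat.of A)).Opens} (h : V' ≤ V) (x : HV A M i V) :
    HVres A N i h (HVmap A f i V x) = HVmap A f i V' (HVres A M i h x) :=
  res_HUmap ((F A).map (ModuleCat.ofHom f)) i h x

theorem HVmap_zero {M N : Type u} [AddCommGroup M] [Module A M] [AddCommGroup N] [Module A N]
    (V : (Spec (CommRingCat.of A)).Opens) (x : HV A M 0 V) : HVmap A (0 : M →ₗ[A] N) 0 V x = 0 :=
  (congrArg (fun t => CohTop.HUmap t 0 V x) (map_zero' (CommRingCat.of A) (ModuleCat.of A M) (ModuleCat.of A N))).trans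
    (HUmap_zero V x)

theorem HVmap_id {M : Type u} [AddCommGroup M] [Module A M] (i : ℕ)
    (V : (Spec (CommRingCat.of A)).Opens) (x : HV A M i V) : HVmap A LinearMap.id i V x = x :=
  (congrArg (fun t => CohTop.HUmap t i V x) ((F A).map_id (ModuleCat.of A M))).trans (HUmap_id i V x)

/-- Left exactness of `H⁰(V, -~)`. -/
theorem exact0 {M N P : Type u} [AddCommGroup M] [Module A M] [AddCommGroup N] [Module A N]
    [AddCommGroup P] [Module A P] (f : M →ₗ[A] N) (g : N →ₗ[A] P)
    (hf : Function.Injective f) (hfg : LinearMap.range f = LinearMap.ker g)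
    (V : (Spec (CommRingCat.of A)).Opens) :
    Function.Injective (HVmap A f 0 V) ∧
      ∀ x, HVmap A g 0 V x = 0 → ∃ y, HVmap A f 0 V y = x := by
  have hz : ModuleCat.ofHom f ≫ ModuleCat.ofHom g = 0 := by
    ext x
    exact LinearMap.mem_ker.1 (hfg.le ⟨x, rfl⟩)
  let S := ShortComplex.mk (ModuleCat.ofHom f) (ModuleCat.ofHom g) hz
  have hS : S.Exact := (ShortComplex.moduleCat_exact_iff_range_eq_ker S).2 hfg
  haveI hm : Mono S.f := (ModuleCat.mono_iff_injective _).2 hf
  exact FR_exact (CommRingCat.of A) S hS V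

variable (I : Ideal A) {M' M M'' : Type u} [AddCommGroup M'] [Module A M'] [AddCommGroup M] [Module A M]
  [AddCommGroup M''] [Module A M'']

def qmap (f : M' →ₗ[A] M) (n : ℕ) : quotPow A I M' n →ₗ[A] quotPow A I M n :=
  Submodule.mapQ _ _ f (by
    rw [← Submodule.map_le_iff_le_comap, Submodule.map_smul'']
    exact Submodule.smul_mono le_rfl le_top)

theorem qmap_comp_π (f : M' →ₗ[A] M) (n : ℕ) : qmap A I f n ∘ₗ quotPowπ A I M' n = quotPowπ A I M n ∘ₗ f :=
  LinearMap.ext fun _ => rfl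

theorem qmap_comp_trans (f : M' →ₗ[A] M) (n : ℕ) :
    qmap A I f n ∘ₗ quotPowTrans A I M' n = quotPowTrans A I M n ∘ₗ qmap A I f (n + 1) :=
  Submodule.linearMap_qext _ (LinearMap.ext fun _ => rfl)

def qtrans (n m : ℕ) (h : n ≤ m) : quotPow A I M m →ₗ[A] quotPow A I M n :=
  Submodule.mapQ _ _ LinearMap.id (by
    rw [Submodule.comap_id]
    exact Submodule.smul_mono_left (Ideal.pow_le_pow_right (by omega)))

theorem mapQ_id_trans {R N : Type*} [CommRing R] [AddCommGroup N] [Module R N] (p q r : Submodule R N)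
    (h₁ : p ≤ q.comap LinearMap.id) (h₂ : q ≤ r.comap LinearMap.id) (h₃ : p ≤ r.comap LinearMap.id) :
    Submodule.mapQ q r LinearMap.id h₂ ∘ₗ Submodule.mapQ p q LinearMap.id h₁ = Submodule.mapQ p r LinearMap.id h₃ :=
  Submodule.linearMap_qext _ (LinearMap.ext fun _ => rfl)

theorem qtrans_comp_π (n m : ℕ) (h : n ≤ m) : qtrans A I n m h ∘ₗ quotPowπ A I M m = quotPowπ A I M n :=
  LinearMap.ext fun _ => rfl

theorem qtrans_succ (n m : ℕ) (h : n ≤ m) :
    qtrans A I (M := M) n (m + 1) (h.trans m.le_succ) = qtrans A I n m h ∘ₗ quotPowTrans A I M m :=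
  (mapQ_id_trans _ _ _ _ _ _).symm

theorem qtrans_self (n : ℕ) : qtrans A I (M := M) n n le_rfl = LinearMap.id :=
  Submodule.linearMap_qext _ (LinearMap.ext fun _ => rfl)

theorem exists_qtrans_ker [IsNoetherianRing A] [Module.Finite A M] (f : M' →ₗ[A] M) (hf : Function.Injective f) :
    ∃ c, ∀ n, ∀ x ∈ LinearMap.ker (qmap A I f (n + c)), qtrans A I n (n + c) (Nat.le_add_right n c) x = 0 := by
  obtain ⟨k, hk⟩ := Ideal.exists_pow_inf_eq_pow_smul I (LinearMap.range f)
  refine ⟨k, fun n x hx => ?_⟩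
  obtain ⟨x, rfl⟩ := Submodule.mkQ_surjective _ x
  have hx' : f x ∈ I ^ (n + k + 1) • (⊤ : Submodule A M) := (Submodule.Quotient.mk_eq_zero _).1 hx
  have h2 : f x ∈ I ^ (n + k + 1 - k) • (I ^ k • ⊤ ⊓ LinearMap.range f) :=
    (hk _ (by omega)).le ⟨hx', ⟨x, rfl⟩⟩
  rw [show n + k + 1 - k = n + 1 from by omega] at h2
  have h3 : f x ∈ Submodule.map f (I ^ (n + 1) • (⊤ : Submodule A M')) := by
    rw [Submodule.map_smul'', Submodule.map_top]
    exact Submodule.smul_mono le_rfl inf_le_right h2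
  obtain ⟨y, hy, hyx⟩ := h3
  exact (Submodule.Quotient.mk_eq_zero _).2 (hf hyx ▸ hy)

theorem admissible_inf {U V : (Spec (CommRingCat.of A)).Opens} (hV : Admissible A I U V)
    {W : (Spec (CommRingCat.of A)).Opens} (hW : Admissible A I U W) : Admissible A I U (V ⊓ W) :=
  ⟨inf_le_left.trans hV.1, fun p h1 h2 => ⟨hV.2 p h1 h2, hW.2 p h1 h2⟩⟩

theorem sub [IsNoetherianRing A] [Module.Finite A M] (f : M' →ₗ[A] M) (g : M →ₗ[A] M'')
    (hf : Function.Injective f) (hfg : LinearMap.range f = LinearMap.ker g)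
    (U : (Spec (CommRingCat.of A)).Opens)
    (h : FormalCohColimBijective A I M 0 U) (h'' : FormalCohColimBijective A I M'' 0 U) :
    FormalCohColimBijective A I M' 0 U := by
  constructor
  · intro V hV x hx
    obtain ⟨V', h', hx'⟩ := h.1 V hV (HVmap A f 0 V x) fun n => by
      rw [HVmap_comp, ← qmap_comp_π, ← HVmap_comp, hx n, map_zero]
    refine ⟨V', h', (exact0 A f g hf hfg V').1 ?_⟩
    rw [map_zero, ← HVres_map]
    exact hx'
  · intro y hy
    obtain ⟨V, hV, x, hx⟩ := h.2 (fun n => HVmap A (qmap A I f n) 0 U (y n)) fun n => by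
      rw [HVmap_comp, ← qmap_comp_trans, ← HVmap_comp, hy n]
    have hgf : g ∘ₗ f = 0 := LinearMap.ext fun z => LinearMap.mem_ker.1 (hfg.le ⟨z, rfl⟩)
    have hq : ∀ n, qmap A I g n ∘ₗ qmap A I f n = 0 := fun n =>
      Submodule.linearMap_qext _ (LinearMap.ext fun z =>
        (congrArg (Submodule.Quotient.mk) (LinearMap.congr_fun hgf z)).trans rfl)
    obtain ⟨V', h', hx'⟩ := h''.1 V hV (HVmap A g 0 V x) fun n => by
      rw [HVmap_comp, ← qmap_comp_π, ← HVmap_comp, ← hx n, HVres_map, HVmap_comp, hq,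
        HVmap_zero]
    rw [HVres_map] at hx'
    obtain ⟨x', hx''⟩ := (exact0 A f g hf hfg V').2 _ hx'
    refine ⟨V', h'.1, x', fun n => ?_⟩
    obtain ⟨c, hc⟩ := exists_qtrans_ker A I f hf
    have hyc : ∀ m (h : n ≤ m), HVmap A (qtrans A I n m h) 0 U (y m) = y n := fun m h => by
      induction m, h using Nat.le_induction with
      | base => exact (congrArg (fun t => HVmap A t 0 U (y n)) (qtrans_self A I n)).trans (HVmap_id A 0 U (y n))
      | succ d hd ih =>
        rw [qtrans_succ A I n d hd, ← HVmap_comp, hy d, ih]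
    have hz : HVmap A (qmap A I f (n + c)) 0 V' (HVres A _ 0 h'.1.1 (y (n + c)) - HVmap A (quotPowπ A I M' (n + c)) 0 V' x') = 0 := by
      rw [map_sub, HVmap_comp A (quotPowπ A I M' (n + c)), qmap_comp_π, ← HVmap_comp A f, hx'',
        ← HVres_map, ← HVres_map, ← hx (n + c), sub_eq_zero]
      exact (res_res 0 hV.1 h'.2 _).symm
    obtain ⟨z, hzz⟩ := (exact0 A (LinearMap.ker (qmap A I f (n + c))).subtype (qmap A I f (n + c))
      Subtype.val_injective (Submodule.range_subtype _) V').2 _ hz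
    have h0 : qtrans A I n (n + c) (Nat.le_add_right n c) ∘ₗ (LinearMap.ker (qmap A I f (n + c))).subtype = 0 :=
      LinearMap.ext fun z => hc n z z.2
    have := congrArg (HVmap A (qtrans A I n (n + c) (Nat.le_add_right n c)) 0 V') hzz
    rw [HVmap_comp, h0, HVmap_zero, map_sub, ← HVres_map, hyc, HVmap_comp, qtrans_comp_π] at this
    exact sub_eq_zero.1 this.symm

end Groth.Agent.H9FormalCoh
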